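/- Homology of Deligne systems and Artin-Rees. -/
import Groth.Agent.IdealMulSec.ArtinRees
import Groth.Agent.QC.Coherent
import Groth.Agent.DQCoh.Serre
import Groth.Agent.DeligneLift.Hom

set_option autoImplicit false
set_option backward.isDefEq.respectTransparency false
set_option linter.style.haveILetI false
set_option maxHeartbeats 1000000
universe u

open CategoryTheory CategoryTheory.Limits AlgebraicGeometry HomologicalComplex

attribute [local instance] HasDerivedCategory.standard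

noncomputable section

namespace Groth.Agent.DeligneAR

open Groth.Agent.QC Groth.Agent.DeligneLift

variable {X : Scheme.{u}} (I : X.IdealSheafData)

/-- ideal multiples preserve epimorphisms of quasi-coherent modules -/
theorem epi_idealMul_map {M N : X.Modules} (hM : Coh.IsQCoh M) (hN : Coh.IsQCoh N) (p : M ⟶ N) [Epi p] :
    Epi ((Dual3.idealMul I).map p) := by
  refine Preadditive.epi_of_cancel_zero _ fun {W} g hg => IdealMulSec.hom_eq_zero g fun V s => ?_
  have h1 : (Dual3.idealMulι I N).app V.1 s ∈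
      LinearMap.range (appₗ (Dual3.idealMulι I M ≫ p) V.1) := by
    rw [IdealMulSec.range_idealMulι_comp I hM p V,
      LinearMap.range_eq_top.2 (show Function.Surjective (appₗ p V.1) from app_surjective_of_epi V.2 hM hN p)]
    exact (IdealMulSec.range_idealMulι I hN V _).1 ⟨s, rfl⟩
  obtain ⟨t, ht⟩ := h1
  have h2 : ((Dual3.idealMul I).map p).app V.1 t = s := by
    haveI : Mono (Dual3.idealMulι I N) := inferInstance
    refine app_injective_of_mono (Dual3.idealMulι I N) V.1 ?_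
    exact (ConcreteCategory.congr_hom (congrArg (fun a => a.app V.1) (Dual3.idealMul_map_ι I p)) t).trans ht
  rw [← h2]
  exact ConcreteCategory.congr_hom (congrArg (fun a => a.app V.1) hg) t

variable [AlgebraicGeometry.IsNoetherian X]

/-- Artin-Rees as a lifting property -/
theorem exists_ar_lift {F G : X.Modules} (hF : Coh.IsCoh F) (hG : Coh.IsQCoh G) (ι : G ⟶ F) [Mono ι] :
    ∃ c₀ : ℕ, ∀ c, c₀ ≤ c → ∀ n, c ≤ n → ∀ {P : X.Modules} (a : P ⟶ (Dual3.idealMul (I ^ n)).obj F) (b : P ⟶ G),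
      a ≫ Dual3.idealMulι (I ^ n) F = b ≫ ι →
      ∃ g : P ⟶ (Dual3.idealMul (I ^ (n - c))).obj G, g ≫ Dual3.idealMulι (I ^ (n - c)) G = b := by
  obtain ⟨c₀, hc₀⟩ := IdealMulSec.artinRees hF hG ι I
  refine ⟨c₀, fun c hc n hn P a b hab => ?_⟩
  haveI : Mono (Dual3.idealMulι (I ^ n) F) := inferInstance
  let K := Subobject.mk (Dual3.idealMulι (I ^ c₀) F) ⊓ Subobject.mk ι
  haveI : Mono (Dual3.idealMulι (I ^ (n - c₀)) (K : X.Modules) ≫ K.arrow) := inferInstance
  have h1 : (Subobject.mk (Dual3.idealMulι (I ^ (n - c₀)) (K : X.Modules) ≫ K.arrow)).Factors (b ≫ ι) := by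
    rw [show Subobject.mk (Dual3.idealMulι (I ^ (n - c₀)) (K : X.Modules) ≫ K.arrow) = _ from hc₀ n (hc.trans hn)]
    exact (Subobject.inf_factors _).2 ⟨(Subobject.mk_factors_iff _ _).2 ⟨a, hab⟩,
      (Subobject.mk_factors_iff _ _).2 ⟨b, rfl⟩⟩
  obtain ⟨g, hg⟩ := (Subobject.mk_factors_iff _ _).1 h1
  let k : (K : X.Modules) ⟶ G :=
    Subobject.ofLE K (Subobject.mk ι) inf_le_right ≫ (Subobject.underlyingIso ι).hom
  have hk : k ≫ ι = K.arrow := by simp [k]
  obtain ⟨t, ht⟩ := exists_incl I hG (show n - c ≤ n - c₀ by omega)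
  refine ⟨g ≫ (Dual3.idealMul (I ^ (n - c₀))).map k ≫ t, ?_⟩
  rw [← cancel_mono ι]
  simp only [Category.assoc, ht]
  rw [← Category.assoc ((Dual3.idealMul (I ^ (n - c₀))).map k), Dual3.idealMul_map_ι, Category.assoc, hk]
  exact hg

variable (F : CochainComplex X.Modules ℤ) (hFc : ∀ q : ℤ, Coh.IsCoh (F.X q)) (p : ℤ)

omit [AlgebraicGeometry.IsNoetherian X] in
/-- lifting into the cycles of a subcomplex -/
theorem exists_cycle_lift {D F : CochainComplex X.Modules ℤ} (f : D ⟶ F) [∀ q, Mono (f.f q)] (p : ℤ)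
    {P : X.Modules} (m : P ⟶ D.X p) (α : P ⟶ F.cycles p) (hm : m ≫ f.f p = α ≫ F.iCycles p) :
    ∃ l : P ⟶ D.cycles p, l ≫ cyclesMap f p = α ∧ l ≫ D.iCycles p = m := by
  have hd : m ≫ D.d p (p + 1) = 0 := by
    rw [← cancel_mono (f.f (p + 1)), Category.assoc, zero_comp, ← f.comm, reassoc_of% hm, F.iCycles_d, comp_zero]
  refine ⟨D.liftCycles m (p + 1) (by simp) hd, ?_, D.liftCycles_i _ _ _ _⟩
  rw [← cancel_mono (F.iCycles p), Category.assoc, cyclesMap_i, liftCycles_i_assoc, hm]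

omit [AlgebraicGeometry.IsNoetherian X] in
/-- boundaries of a subcomplex die -/
theorem comp_homologyπ_eq_zero {D F : CochainComplex X.Modules ℤ} (f : D ⟶ F) [∀ q, Mono (f.f q)] (p : ℤ)
    {P : X.Modules} (w : P ⟶ D.cycles p) (v : P ⟶ D.X (p - 1))
    (h : w ≫ cyclesMap f p = v ≫ f.f (p - 1) ≫ F.toCycles (p - 1) p) : w ≫ D.homologyπ p = 0 := by
  have hw : w = v ≫ D.toCycles (p - 1) p := by
    rw [← cancel_mono (D.iCycles p), Category.assoc, toCycles_i, ← cancel_mono (f.f p)]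
    have h' := congrArg (fun t => t ≫ F.iCycles p) h
    simp only [Category.assoc, cyclesMap_i, toCycles_i] at h'
    rw [Category.assoc, h', Category.assoc, f.comm]
  rw [hw, Category.assoc, toCycles_comp_homologyπ, comp_zero]

include hFc in
theorem isQCoh_cycles : Coh.IsQCoh (F.cycles p) :=
  isQCoh_of_iso ((kernelIsKernel (F.d p (p + 1))).conePointUniqueUpToIso (F.cyclesIsKernel p (p + 1) (by simp)))
    (isQCoh_kernel (hFc p).1 (hFc (p + 1)).1 _)

include hFc in
theorem isQCoh_homology : Coh.IsQCoh (F.homology p) :=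
  isQCoh_of_iso ((cokernelIsCokernel (F.toCycles (p - 1) p)).coconePointUniqueUpToIso
    (F.homologyIsCokernel (p - 1) p (by simp))) (isQCoh_cokernel (hFc (p - 1)).1 (isQCoh_cycles F hFc p) _)

include hFc in
theorem exists_maps : ∃ c : ℕ, 0 < c ∧ ∀ n, c ≤ n →
    (∃ φ : ((Dual3.deligne I n).obj F).homology p ⟶ (Dual3.idealMul (I ^ (n - c))).obj (F.homology p),
      φ ≫ Dual3.idealMulι (I ^ (n - c)) (F.homology p) = homologyMap (Dual3.deligneι I n F) p ∧
      ∃ a : ((Dual3.deligne I n).obj F).cycles p ⟶ (Dual3.idealMul (I ^ (n - c))).obj (F.cycles p),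
        a ≫ Dual3.idealMulι (I ^ (n - c)) (F.cycles p) = cyclesMap (Dual3.deligneι I n F) p ∧
        ((Dual3.deligne I n).obj F).homologyπ p ≫ φ = a ≫ (Dual3.idealMul (I ^ (n - c))).map (F.homologyπ p)) ∧
    (∃ ψ : (Dual3.idealMul (I ^ n)).obj (F.homology p) ⟶ ((Dual3.deligne I (n - c)).obj F).homology p,
      ψ ≫ homologyMap (Dual3.deligneι I (n - c) F) p = Dual3.idealMulι (I ^ n) (F.homology p) ∧
      ∃ l : (Dual3.idealMul (I ^ n)).obj (F.cycles p) ⟶ ((Dual3.deligne I (n - c)).obj F).cycles p,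
        l ≫ cyclesMap (Dual3.deligneι I (n - c) F) p = Dual3.idealMulι (I ^ n) (F.cycles p) ∧
        (Dual3.idealMul (I ^ n)).map (F.homologyπ p) ≫ ψ = l ≫ ((Dual3.deligne I (n - c)).obj F).homologyπ p) := by
  let Z := F.cycles p
  let B := kernel (F.homologyπ p)
  have hZ : Coh.IsQCoh Z := isQCoh_cycles F hFc p
  have hH := isQCoh_homology F hFc p
  have hB : Coh.IsQCoh B := isQCoh_kernel hZ hH _
  obtain ⟨c₁, hc₁⟩ := exists_ar_lift I (hFc p) hZ (F.iCycles p)
  obtain ⟨c₂, hc₂⟩ := exists_ar_lift I (hFc p) hB (kernel.ι (F.homologyπ p) ≫ F.iCycles p)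
  refine ⟨c₁ + c₂ + 1, by omega, fun n hn => ?_⟩
  generalize hc : c₁ + c₂ + 1 = c at hn ⊢
  let Dn := (Dual3.deligne I n).obj F
  constructor
  · obtain ⟨a, ha⟩ := hc₁ c (by omega) n hn (Dn.iCycles p) (cyclesMap (Dual3.deligneι I n F) p)
      (cyclesMap_i (Dual3.deligneι I n F) p).symm
    have h0 : homologyMap (Dual3.deligneι I n F) p ≫ cokernel.π (Dual3.idealMulι (I ^ (n - c)) (F.homology p)) = 0 := by
      rw [← cancel_epi (Dn.homologyπ p), comp_zero, homologyπ_naturality_assoc, ← ha, Category.assoc,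
        ← Category.assoc (Dual3.idealMulι (I ^ (n - c)) (F.cycles p)), ← Dual3.idealMul_map_ι, Category.assoc,
        cokernel.condition, comp_zero, comp_zero]
    let T := ShortComplex.mk (Dual3.idealMulι (I ^ (n - c)) (F.homology p))
      (cokernel.π (Dual3.idealMulι (I ^ (n - c)) (F.homology p))) (cokernel.condition _)
    have hT : T.Exact := ShortComplex.exact_of_g_is_cokernel T (cokernelIsCokernel _)
    haveI : Mono T.f := inferInstanceAs (Mono (Dual3.idealMulι (I ^ (n - c)) (F.homology p)))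
    refine ⟨hT.lift _ h0, hT.lift_f _ h0, a, ha, ?_⟩
    rw [← cancel_mono (Dual3.idealMulι (I ^ (n - c)) (F.homology p))]
    simp only [Category.assoc, Dual3.idealMul_map_ι]
    rw [show hT.lift _ h0 ≫ Dual3.idealMulι (I ^ (n - c)) (F.homology p) = _ from hT.lift_f _ h0,
      homologyπ_naturality, ← Category.assoc a, ha]
  · let D' := (Dual3.deligne I (n - c)).obj F
    obtain ⟨t, ht⟩ := exists_incl I (hFc p).1 (show n - c ≤ n by omega)
    let m : (Dual3.idealMul (I ^ n)).obj Z ⟶ D'.X p := (Dual3.idealMul (I ^ n)).map (F.iCycles p) ≫ t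
    have hm : m ≫ Dual3.idealMulι (I ^ (n - c)) (F.X p) = Dual3.idealMulι (I ^ n) Z ≫ F.iCycles p := by
      simp only [m, Category.assoc, ht, Dual3.idealMul_map_ι]
    haveI : ∀ q, Mono ((Dual3.deligneι I (n - c) F).f q) := fun q =>
      inferInstanceAs (Mono (Dual3.idealMulι (I ^ (n - c)) (F.X q)))
    obtain ⟨l, hl, hli⟩ := exists_cycle_lift (Dual3.deligneι I (n - c) F) p m (Dual3.idealMulι (I ^ n) Z) hm
    let π' := (Dual3.idealMul (I ^ n)).map (F.homologyπ p)
    haveI : Epi π' := epi_idealMul_map (I ^ n) hZ hH _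
    -- the kernel of `π'` dies
    let b : kernel π' ⟶ B := kernel.lift (F.homologyπ p) (kernel.ι π' ≫ Dual3.idealMulι (I ^ n) Z) (by
      rw [Category.assoc, ← Dual3.idealMul_map_ι, ← Category.assoc, show kernel.ι π' ≫ π' = 0 from kernel.condition π',
        zero_comp])
    obtain ⟨g, hg⟩ := hc₂ c (by omega) n hn (kernel.ι π' ≫ (Dual3.idealMul (I ^ n)).map (F.iCycles p)) b (by
      simp only [b, Z, Category.assoc, Dual3.idealMul_map_ι, kernel.lift_ι_assoc])
    let e₀ : F.X (p - 1) ⟶ B := kernel.lift (F.homologyπ p) (F.toCycles (p - 1) p) (F.toCycles_comp_homologyπ _ _)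
    haveI : Epi e₀ := ((ShortComplex.exact_iff_epi_kernel_lift (ShortComplex.mk _ _ (F.toCycles_comp_homologyπ (p - 1) p))).1
      (ShortComplex.exact_of_g_is_cokernel _ (F.homologyIsCokernel (p - 1) p (by simp))))
    haveI : Epi ((Dual3.idealMul (I ^ (n - c))).map e₀) := epi_idealMul_map (I ^ (n - c)) (hFc (p - 1)).1 hB e₀
    let q₁ := pullback.fst g ((Dual3.idealMul (I ^ (n - c))).map e₀)
    let q₂ := pullback.snd g ((Dual3.idealMul (I ^ (n - c))).map e₀)
    have hk : kernel.ι π' ≫ l ≫ D'.homologyπ p = 0 := by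
      rw [← cancel_epi q₁, comp_zero, ← Category.assoc, ← Category.assoc]
      refine comp_homologyπ_eq_zero (Dual3.deligneι I (n - c) F) p _ q₂ ?_
      have h2 : q₁ ≫ b = q₂ ≫ Dual3.idealMulι (I ^ (n - c)) (F.X (p - 1)) ≫ e₀ := by
        rw [← hg, ← Category.assoc, pullback.condition, Category.assoc, Dual3.idealMul_map_ι]
      have h3 := congrArg (fun u => u ≫ kernel.ι (F.homologyπ p)) h2
      simp only [b, e₀, Category.assoc, kernel.lift_ι] at h3
      simp only [Category.assoc, hl]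
      exact h3
    let T := ShortComplex.mk (kernel.ι π') π' (kernel.condition π')
    have hT : T.Exact := ShortComplex.exact_of_f_is_kernel T (kernelIsKernel π')
    haveI : Epi T.g := inferInstanceAs (Epi π')
    refine ⟨hT.desc _ hk, ?_, l, hl, hT.g_desc _ hk⟩
    rw [← cancel_epi π', ← Category.assoc, show π' ≫ hT.desc _ hk = _ from hT.g_desc _ hk, Category.assoc,
      homologyπ_naturality, reassoc_of% hl, Dual3.idealMul_map_ι]

include hFc in
theorem main :
    ∃ (c : ℕ) (φ : ∀ n : ℕ, ((Dual3.deligne I n).obj F).homology p ⟶ (Dual3.idealMul (I ^ (n - c))).obj (F.homology p))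
      (ψ : ∀ n : ℕ, (Dual3.idealMul (I ^ n)).obj (F.homology p) ⟶ ((Dual3.deligne I (n - c)).obj F).homology p),
      0 < c ∧
      (∀ n : ℕ, c ≤ n → φ n ≫ Dual3.idealMulι (I ^ (n - c)) (F.homology p) = homologyMap (Dual3.deligneι I n F) p) ∧
      (∀ n : ℕ, c ≤ n → ψ n ≫ homologyMap (Dual3.deligneι I (n - c) F) p = Dual3.idealMulι (I ^ n) (F.homology p)) ∧
      (∀ n : ℕ, 2 * c ≤ n → (ψ n ≫ φ (n - c)) ≫ Dual3.idealMulι (I ^ (n - c - c)) (F.homology p) =
        Dual3.idealMulι (I ^ n) (F.homology p)) ∧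
      ∀ (n : ℕ), 2 * c ≤ n → ∀ t : (Dual3.deligne I n).obj F ⟶ (Dual3.deligne I (n - c - c)).obj F,
        t ≫ Dual3.deligneι I (n - c - c) F = Dual3.deligneι I n F → φ n ≫ ψ (n - c) = homologyMap t p := by
  obtain ⟨c, hc, hn⟩ := exists_maps I F hFc p
  choose! φ hφ using fun n h => (hn n h).1
  choose! ψ hψ using fun n h => (hn n h).2
  refine ⟨c, φ, ψ, hc, fun n h => (hφ n h).1, fun n h => (hψ n h).1, fun n h => ?_, fun n h t ht => ?_⟩
  · rw [Category.assoc, (hφ (n - c) (by omega)).1, (hψ n (by omega)).1]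
  · obtain ⟨a, ha, ha'⟩ := (hφ n (by omega)).2
    obtain ⟨l, hl, hl'⟩ := (hψ (n - c) (by omega)).2
    rw [← cancel_epi (((Dual3.deligne I n).obj F).homologyπ p), reassoc_of% ha', hl', homologyπ_naturality,
      ← Category.assoc]
    congr 1
    haveI : ∀ q, Mono ((Dual3.deligneι I (n - c - c) F).f q) := fun q =>
      inferInstanceAs (Mono (Dual3.idealMulι (I ^ (n - c - c)) (F.X q)))
    haveI : Mono (cyclesMap (Dual3.deligneι I (n - c - c) F) p) := inferInstance
    rw [← cancel_mono (cyclesMap (Dual3.deligneι I (n - c - c) F) p), ← cyclesMap_comp, ht, Category.assoc, hl, ha]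

end Groth.Agent.DeligneAR
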